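import Groth.Agent.ConstrLib.Basic
import Groth.Prelude.Def_ProCons
import Mathlib.AlgebraicGeometry.Noetherian
import Mathlib.AlgebraicGeometry.IdealSheaf.Subscheme
import Mathlib.AlgebraicGeometry.Morphisms.ClosedImmersion
import Mathlib.AlgebraicGeometry.Morphisms.FinitePresentation
import Mathlib.AlgebraicGeometry.Properties

/-!
Criteria for a subset of a Noetherian scheme to be (ind-)constructible, by restriction to integral
closed subschemes.
-/

universe u

open CategoryTheory AlgebraicGeometry Topology TopologicalSpace Set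
open Groth.Agent.ConstrLib

namespace Groth.Agent.ConsPropLib

section Top

variable {S : Type*} [TopologicalSpace S]

theorem isConstructible_of_forall_irreducible [NoetherianSpace S] {E : Set S}
    (h : ∀ Z : Set S, IsClosed Z → IsIrreducible Z →
      (∃ U, IsOpen U ∧ (U ∩ Z).Nonempty ∧ U ∩ Z ⊆ E) ∨
        (∃ U, IsOpen U ∧ (U ∩ Z).Nonempty ∧ U ∩ Z ⊆ Eᶜ)) : IsConstructible E := by
  have key : IsConstructible (E ∩ univ) := by
    refine irreducible_induction (P := fun F => IsConstructible (E ∩ F)) ?_ ?_ ?_ isClosed_univ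
    · simp
    · intro A B _ _ hA hB
      rw [inter_union_distrib_left]; exact hA.union hB
    · intro F hF hFi ih
      rcases h F hF hFi with ⟨U, hU, hne, hsub⟩ | ⟨U, hU, hne, hsub⟩
      · have hr := ih _ (hF.sdiff hU) (sdiff_open_ssubset hne)
        have e : E ∩ F = (U ∩ F) ∪ (E ∩ (F \ U)) := by
          ext a
          refine ⟨fun ⟨h1, h2⟩ => ?_, ?_⟩
          · by_cases ha : a ∈ U
            · exact Or.inl ⟨ha, h2⟩
            · exact Or.inr ⟨h1, h2, ha⟩
          · rintro (h1 | ⟨h1, h2, -⟩)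
            · exact ⟨hsub h1, h1.2⟩
            · exact ⟨h1, h2⟩
        rw [e]
        exact (isConstructible_of_isLocallyClosed
          (hU.isLocallyClosed.inter hF.isLocallyClosed)).union hr
      · have hr := ih _ (hF.sdiff hU) (sdiff_open_ssubset hne)
        have e : E ∩ F = E ∩ (F \ U) := by
          ext a
          exact ⟨fun ⟨h1, h2⟩ => ⟨h1, h2, fun ha => hsub ⟨ha, h2⟩ h1⟩, fun ⟨h1, h2, _⟩ => ⟨h1, h2⟩⟩
        rw [e]
        exact hr
  simpa using key

theorem isIndConstructible_of_forall_mem [NoetherianSpace S] {E : Set S}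
    (h : ∀ x ∈ E, ∃ U, IsOpen U ∧ x ∈ U ∧ U ∩ closure {x} ⊆ E) : ProCons.IsIndConstructible E := by
  intro x
  refine ⟨univ, isOpen_univ, trivial,
    {T : Set ↥(univ : Set S) | IsLocallyConstructible T ∧ T ⊆ Subtype.val ⁻¹' E},
    fun T hT => hT.1, ?_⟩
  refine Subset.antisymm (fun a ha => ?_) (sUnion_subset fun T hT => hT.2)
  obtain ⟨U, hU, hxU, hsub⟩ := h a.1 ha
  refine ⟨Subtype.val ⁻¹' (U ∩ closure {a.1}), ⟨?_, preimage_mono hsub⟩,
    hxU, subset_closure rfl⟩
  exact (isConstructible_of_isLocallyClosed (hU.isLocallyClosed.inter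
    isClosed_closure.isLocallyClosed)).isLocallyConstructible.preimage_of_isOpenEmbedding
    isOpen_univ.isOpenEmbedding_subtypeVal

theorem exists_open_subset_of_generic [IrreducibleSpace S] [QuasiSober S] {C : Set S}
    (hC : IsConstructible C) (h : genericPoint S ∈ C) :
    ∃ U : Set S, IsOpen U ∧ genericPoint S ∈ U ∧ U ⊆ C := by
  obtain ⟨U, hU, hne, hsub⟩ := exists_open_subset_of_dense_constructible
    (IrreducibleSpace.isIrreducible_univ S) hC (fun a _ => by
      have h1 : a ∈ closure ({genericPoint S} : Set S) := by rw [genericPoint_closure]; trivial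
      exact closure_mono (singleton_subset_iff.2 (show genericPoint S ∈ C ∩ univ from ⟨h, trivial⟩)) h1)
  exact ⟨U, hU, mem_of_generic hU hne (by rw [genericPoint_closure]), fun a ha => hsub ⟨ha, trivial⟩⟩

/-- A fibre over a point without proper generalizations contained in a set covered by locally
closed pieces is contained in a constructible subset of it. -/
theorem exists_constructible_between {Y : Type*} [TopologicalSpace Y] [NoetherianSpace Y]
    [QuasiSober Y] {F L : Set Y} (hF : StableUnderGeneralization F) (hFL : F ⊆ L)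
    (h : ∀ x ∈ L, ∃ U, IsOpen U ∧ x ∈ U ∧ U ∩ closure {x} ⊆ L) :
    ∃ C, IsConstructible C ∧ F ⊆ C ∧ C ⊆ L := by
  have key : ∃ C, IsConstructible C ∧ F ∩ univ ⊆ C ∧ C ⊆ L := by
    refine irreducible_induction (P := fun A => ∃ C, IsConstructible C ∧ F ∩ A ⊆ C ∧ C ⊆ L) ?_ ?_ ?_
      isClosed_univ
    · exact ⟨∅, .empty, by simp, by simp⟩
    · rintro A B - - ⟨C, hC, h1, h2⟩ ⟨D, hD, h3, h4⟩
      refine ⟨C ∪ D, hC.union hD, ?_, union_subset h2 h4⟩
      rw [inter_union_distrib_left]
      exact union_subset_union h1 h3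
    · intro A hA hAi ih
      rcases (F ∩ A).eq_empty_or_nonempty with he | ⟨y, hyF, hyA⟩
      · exact ⟨∅, .empty, he.subset, by simp⟩
      obtain ⟨ξ, hξ⟩ := QuasiSober.sober hAi hA
      have hξF : ξ ∈ F := hF (hξ.specializes hyA) hyF
      obtain ⟨U, hU, hξU, hsub⟩ := h ξ (hFL hξF)
      rw [hξ.def] at hsub
      obtain ⟨C, hC, h1, h2⟩ := ih _ (hA.sdiff hU) (sdiff_open_ssubset ⟨ξ, hξU, hξ.mem⟩)
      refine ⟨U ∩ A ∪ C, (isConstructible_of_isLocallyClosed
        (hU.isLocallyClosed.inter hA.isLocallyClosed)).union hC, fun a ⟨haF, haA⟩ => ?_,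
        union_subset hsub h2⟩
      by_cases ha : a ∈ U
      · exact Or.inl ⟨ha, haA⟩
      · exact Or.inr (h1 ⟨haF, haA, ha⟩)
  simpa using key

end Top

/-- An integral closed subscheme with given irreducible closed support. -/
theorem exists_integral_closed {S : Scheme.{u}} [IsNoetherian S] {Z : Set S} (hZ : IsClosed Z)
    (hZi : IsIrreducible Z) : ∃ (T : Scheme.{u}) (ι : T ⟶ S) (_ : IsClosedImmersion ι)
      (_ : IsIntegral T) (_ : IsNoetherian T), range ι = Z := by
  let I := Scheme.IdealSheafData.vanishingIdeal (X := S) ⟨Z, hZ⟩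
  have hr : range I.subschemeι = Z := by
    rw [Scheme.IdealSheafData.range_subschemeι]
    exact Scheme.IdealSheafData.coe_support_vanishingIdeal _
  haveI : ∀ U, IsReduced (I.subschemeCover.openCover.X U) := fun U => by
    haveI : _root_.IsReduced (Γ(S, U.1) ⧸ I.ideal U) :=
      (Ideal.isRadical_iff_quotient_reduced _).1 (by
        rw [Scheme.IdealSheafData.vanishingIdeal_ideal]
        exact PrimeSpectrum.isRadical_vanishingIdeal _)
    show IsReduced (Spec (CommRingCat.of (Γ(S, U.1) ⧸ I.ideal U)))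
    infer_instance
  haveI : IsReduced I.subscheme := IsReduced.of_openCover I.subscheme I.subschemeCover.openCover
  haveI : IrreducibleSpace I.subscheme := by
    refine (irreducibleSpace_def _).2 ⟨?_, ?_⟩
    · obtain ⟨y, hy⟩ := hZi.nonempty
      obtain ⟨x, -⟩ := hr.ge hy
      exact ⟨x, trivial⟩
    · intro u v hu hv hu' hv'
      obtain ⟨u', hu2, rfl⟩ := I.subschemeι.isEmbedding.isInducing.isOpen_iff.1 hu
      obtain ⟨v', hv2, rfl⟩ := I.subschemeι.isEmbedding.isInducing.isOpen_iff.1 hv
      obtain ⟨a, -, ha⟩ := hu'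
      obtain ⟨b, -, hb⟩ := hv'
      obtain ⟨y, hy, hy1, hy2⟩ := hZi.isPreirreducible u' v' hu2 hv2
        ⟨_, hr.le ⟨a, rfl⟩, ha⟩ ⟨_, hr.le ⟨b, rfl⟩, hb⟩
      obtain ⟨c, rfl⟩ := hr.ge hy
      exact ⟨c, trivial, hy1, hy2⟩
  haveI : IsLocallyNoetherian I.subscheme := LocallyOfFiniteType.isLocallyNoetherian I.subschemeι
  haveI : CompactSpace I.subscheme := QuasiCompact.compactSpace_of_compactSpace I.subschemeι
  exact ⟨_, I.subschemeι, inferInstance, isIntegral_of_irreducibleSpace_of_isReduced _, ⟨⟩, hr⟩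

theorem exists_open_trace {S T : Scheme.{u}} [IsIntegral T] (ι : T ⟶ S) [IsClosedImmersion ι]
    {E : Set S} (h : (interior (ι ⁻¹' E)).Nonempty) :
    ∃ U, IsOpen U ∧ ι (genericPoint T) ∈ U ∧ U ∩ range ι ⊆ E := by
  obtain ⟨U, hU, e⟩ := ι.isEmbedding.isInducing.isOpen_iff.1 (isOpen_interior (s := ι ⁻¹' E))
  refine ⟨U, hU, ?_, ?_⟩
  · have hg : genericPoint T ∈ interior (ι ⁻¹' E) := by
      obtain ⟨a, ha⟩ := h
      exact (genericPoint_specializes a).mem_open isOpen_interior ha
    rw [← e] at hg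
    exact hg
  · rintro _ ⟨hU', a, rfl⟩
    have h1 : a ∈ interior (ι ⁻¹' E) := by rw [← e]; exact hU'
    exact (interior_subset (s := ι ⁻¹' E) h1 :)

/-- A subset of a Noetherian scheme whose trace on each integral closed subscheme, or whose
complement's trace, has nonempty interior is constructible. -/
theorem isConstructible_of_integral {S : Scheme.{u}} [IsNoetherian S] {E : Set S}
    (h : ∀ (T : Scheme.{u}) (ι : T ⟶ S) [IsClosedImmersion ι] [IsIntegral T] [IsNoetherian T],
      (interior (ι ⁻¹' E)).Nonempty ∨ (interior (ι ⁻¹' E)ᶜ).Nonempty) : IsConstructible E := by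
  refine isConstructible_of_forall_irreducible fun Z hZ hZi => ?_
  obtain ⟨T, ι, _, _, _, rfl⟩ := exists_integral_closed hZ hZi
  rcases h T ι with h | h
  · obtain ⟨U, hU, hmem, hsub⟩ := exists_open_trace ι h
    exact Or.inl ⟨U, hU, ⟨_, hmem, mem_range_self _⟩, hsub⟩
  · rw [← preimage_compl] at h
    obtain ⟨U, hU, hmem, hsub⟩ := exists_open_trace ι h
    exact Or.inr ⟨U, hU, ⟨_, hmem, mem_range_self _⟩, hsub⟩

theorem exists_trace_of_integral {S : Scheme.{u}} [IsNoetherian S] {E : Set S}
    (h : ∀ (T : Scheme.{u}) (ι : T ⟶ S) [IsClosedImmersion ι] [IsIntegral T] [IsNoetherian T],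
      genericPoint T ∈ ι ⁻¹' E → (interior (ι ⁻¹' E)).Nonempty) :
    ∀ x ∈ E, ∃ U, IsOpen U ∧ x ∈ U ∧ U ∩ closure {x} ⊆ E := by
  intro x hx
  obtain ⟨T, ι, _, _, _, hr⟩ :=
    exists_integral_closed (S := S) isClosed_closure (isIrreducible_singleton (x := x)).closure
  have e : ι (genericPoint T) = x := by
    have h1 : IsGenericPoint (ι (genericPoint T)) (closure {x}) := by
      have := (genericPoint_spec T).image ι.continuous
      rw [image_univ, hr, closure_closure] at this
      exact this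
    exact h1.eq isGenericPoint_closure
  obtain ⟨U, hU, hmem, hsub⟩ := exists_open_trace ι (h T ι (by rw [mem_preimage, e]; exact hx))
  exact ⟨U, hU, e ▸ hmem, by rw [← hr]; exact hsub⟩

end Groth.Agent.ConsPropLib
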