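import Groth.Prelude.Def_W4ega4s0809p4Pair
import Groth.Agent.ConsPropLib.Noeth

/-!
Loci of field-stable relations commute with base change; (ind-)constructibility over a Noetherian base.
-/

universe u

open CategoryTheory CategoryTheory.Limits AlgebraicGeometry Topology

namespace Groth.Agent.ConsPropLib

instance subsingleton_Spec_residueField {X : Scheme.{u}} (x : X) :
    Subsingleton ↥(Spec (X.residueField x)) :=
  inferInstanceAs (Subsingleton (PrimeSpectrum _))

set_option backward.isDefEq.respectTransparency.types false in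
instance locallyOfFiniteType_fiberTo {X Y : Scheme.{u}} (f : X ⟶ Y) (y : Y) [LocallyOfFiniteType f] :
    LocallyOfFiniteType (f.fiberToSpecResidueField y) :=
  MorphismProperty.pullback_snd _ _ ‹_›

set_option backward.isDefEq.respectTransparency.types false in
instance quasiCompact_fiberTo {X Y : Scheme.{u}} (f : X ⟶ Y) (y : Y) [QuasiCompact f] :
    QuasiCompact (f.fiberToSpecResidueField y) :=
  MorphismProperty.pullback_snd _ _ ‹_›

variable {X X' Y Y' S S' : Scheme.{u}}

set_option backward.isDefEq.respectTransparency.types false in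
theorem locus_preimage {P : ∀ ⦃Y T : Scheme.{u}⦄, (Y ⟶ T) → Prop} (hP : ConsProp.IsFieldStable P)
    {u : X ⟶ S} {u' : X' ⟶ S'} {h : S' ⟶ S} {e : X' ⟶ X} [LocallyOfFiniteType u] [QuasiCompact u]
    (sq : IsPullback e u' u h) :
    ConsProp.locus P u' = h ⁻¹' ConsProp.locus P u := by
  ext s
  exact (@hP _ _ _ _ _ _ _ _ inferInstance inferInstance inferInstance inferInstance
    (locallyOfFiniteType_fiberTo u _) (quasiCompact_fiberTo u _)
    (isPullback_fiberToSpecResidueField_of_isPullback sq s)).symm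

set_option backward.isDefEq.respectTransparency.types false in
theorem locusPair_preimage {P : ∀ ⦃X Y T : Scheme.{u}⦄, (X ⟶ T) → (Y ⟶ T) → Prop}
    (hP : ConsPropPair.IsFieldStablePair P)
    {u : X ⟶ S} {v : Y ⟶ S} {u' : X' ⟶ S'} {v' : Y' ⟶ S'} {h : S' ⟶ S} {eX : X' ⟶ X} {eY : Y' ⟶ Y}
    [LocallyOfFiniteType u] [QuasiCompact u] [LocallyOfFiniteType v] [QuasiCompact v]
    (sqX : IsPullback eX u' u h) (sqY : IsPullback eY v' v h) :
    ConsPropPair.locusPair P u' v' = h ⁻¹' ConsPropPair.locusPair P u v := by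
  ext s
  exact (@hP _ _ _ _ _ _ _ _ _ _ _ _ _ inferInstance inferInstance inferInstance inferInstance
    (locallyOfFiniteType_fiberTo u _) (quasiCompact_fiberTo u _)
    (locallyOfFiniteType_fiberTo v _) (quasiCompact_fiberTo v _)
    (isPullback_fiberToSpecResidueField_of_isPullback sqX s)
    (isPullback_fiberToSpecResidueField_of_isPullback sqY s)).symm

lemma fiberMap_comp (f : X ⟶ Y) (g : Y ⟶ S) (s : S) :
    MoreMor.fiberMap f g s ≫ g.fiberToSpecResidueField s = (f ≫ g).fiberToSpecResidueField s :=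
  pullback.lift_snd _ _ _

lemma fiberMap_ι (f : X ⟶ Y) (g : Y ⟶ S) (s : S) :
    MoreMor.fiberMap f g s ≫ g.fiberι s = (f ≫ g).fiberι s ≫ f :=
  pullback.lift_fst _ _ _

lemma isPullback_congr {C : Type*} [Category C] {P A B D : C} {a : P ⟶ A} {b b' : P ⟶ B}
    {c c' : A ⟶ D} {d : B ⟶ D} (h : IsPullback a b c d) (e1 : b' = b) (e2 : c' = c) :
    IsPullback a b' c' d := by
  subst e1 e2; exact h

lemma map_lift_comm {C : Type*} [Category C] [HasPullbacks C] {X Y S K X' Y' S' K' : C}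
    (f : X ⟶ Y) (g : Y ⟶ S) (k : K ⟶ S) (f' : X' ⟶ Y') (g' : Y' ⟶ S') (k' : K' ⟶ S')
    (eX : X' ⟶ X) (eY : Y' ⟶ Y) (eK : K' ⟶ K) (h : S' ⟶ S) (w : eX ≫ f = f' ≫ eY)
    (h1 : (f' ≫ g') ≫ h = eX ≫ f ≫ g) (h2 : k' ≫ h = eK ≫ k) (h3 : g' ≫ h = eY ≫ g) :
    pullback.map (f' ≫ g') k' (f ≫ g) k eX eK h h1 h2 ≫
        pullback.lift (f := g) (g := k) (pullback.fst (f ≫ g) k ≫ f) (pullback.snd (f ≫ g) k)
          (by rw [Category.assoc, pullback.condition]) =
      pullback.lift (f := g') (g := k') (pullback.fst (f' ≫ g') k' ≫ f') (pullback.snd (f' ≫ g') k')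
          (by rw [Category.assoc, pullback.condition]) ≫
        pullback.map g' k' g k eY eK h h3 h2 := by
  refine pullback.hom_ext ?_ ?_
  · refine (Category.assoc _ _ _).trans (Eq.trans ?_ (Category.assoc _ _ _).symm)
    rw [pullback.lift_fst, pullback.map, pullback.map, pullback.lift_fst, pullback.lift_fst_assoc,
      pullback.lift_fst_assoc]
    simp only [Category.assoc, w]
  · refine (Category.assoc _ _ _).trans (Eq.trans ?_ (Category.assoc _ _ _).symm)
    rw [pullback.lift_snd, pullback.map, pullback.map, pullback.lift_snd, pullback.lift_snd,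
      pullback.lift_snd_assoc]

lemma isPullback_fiberMap (f : X ⟶ Y) (g : Y ⟶ S) (s : S) :
    IsPullback ((f ≫ g).fiberι s) (MoreMor.fiberMap f g s) f (g.fiberι s) := by
  refine IsPullback.of_bot ?_ (fiberMap_ι f g s).symm (IsPullback.of_hasPullback g _)
  show IsPullback _ (MoreMor.fiberMap f g s ≫ g.fiberToSpecResidueField s) _ _
  rw [fiberMap_comp]
  exact IsPullback.of_hasPullback _ _

set_option backward.isDefEq.respectTransparency.types false in
theorem locusMor_preimage {P : ∀ ⦃X Y T : Scheme.{u}⦄, (X ⟶ Y) → (Y ⟶ T) → Prop}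
    (hP : ConsProp.IsFieldStableMor P) {f : X ⟶ Y} {g : Y ⟶ S} {f' : X' ⟶ Y'} {g' : Y' ⟶ S'}
    {eX : X' ⟶ X} {eY : Y' ⟶ Y} {h : S' ⟶ S}
    [LocallyOfFiniteType g] [QuasiCompact g] [LocallyOfFiniteType (f ≫ g)] [QuasiCompact (f ≫ g)]
    (sqY : IsPullback eY g' g h) (sqX : IsPullback eX f' f eY) :
    ConsProp.locusMor P f' g' = h ⁻¹' ConsProp.locusMor P f g := by
  ext s
  have hA := isPullback_fiberToSpecResidueField_of_isPullback sqY s
  have hB := isPullback_fiberToSpecResidueField_of_isPullback (sqX.paste_vert sqY) s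
  have hC : IsPullback (pullback.map _ _ _ _ eX
      (Spec.map (h.residueFieldMap s)) h ((sqX.paste_vert sqY).w).symm (by simp))
      (MoreMor.fiberMap f' g' s) (MoreMor.fiberMap f g (h s)) _ := IsPullback.of_bot ?_ ?_ hA
  · exact (@hP _ _ _ _ _ _ _ _ _ _ _ _ _ inferInstance inferInstance inferInstance inferInstance
      (locallyOfFiniteType_fiberTo g _) (quasiCompact_fiberTo g _)
      ((fiberMap_comp f g (h s)).symm ▸ locallyOfFiniteType_fiberTo (f ≫ g) (h s))
      ((fiberMap_comp f g (h s)).symm ▸ quasiCompact_fiberTo (f ≫ g) (h s)) hA hC).symm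
  · exact isPullback_congr hB (fiberMap_comp f' g' s) (fiberMap_comp f g (h s))
  · exact map_lift_comm f g _ f' g' _ eX eY _ h sqX.w _ _ sqY.w.symm

section Noetherian

variable [IsNoetherian S]

theorem isConstructible_locus {P : ∀ ⦃Y T : Scheme.{u}⦄, (Y ⟶ T) → Prop} (hP : ConsProp.IsCons P)
    (u : X ⟶ S) [LocallyOfFiniteType u] [QuasiCompact u] :
    IsConstructible (ConsProp.locus P u) := by
  refine isConstructible_of_integral fun T ι _ _ _ => ?_
  rw [← locus_preimage hP.1 (IsPullback.of_hasPullback u ι)]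
  exact hP.2 (pullback.snd u ι)

theorem exists_trace_locus {P : ∀ ⦃Y T : Scheme.{u}⦄, (Y ⟶ T) → Prop} (hP : ConsProp.IsIndCons P)
    (u : X ⟶ S) [LocallyOfFiniteType u] [QuasiCompact u] :
    ∀ x ∈ ConsProp.locus P u, ∃ U, IsOpen U ∧ x ∈ U ∧ U ∩ closure {x} ⊆ ConsProp.locus P u := by
  refine exists_trace_of_integral fun T ι _ _ _ => ?_
  rw [← locus_preimage hP.1 (IsPullback.of_hasPullback u ι)]
  exact hP.2 (pullback.snd u ι)

theorem isConstructible_locusPair {P : ∀ ⦃X Y T : Scheme.{u}⦄, (X ⟶ T) → (Y ⟶ T) → Prop}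
    (hP : ConsPropPair.IsConsPair P) (u : X ⟶ S) (v : Y ⟶ S)
    [LocallyOfFiniteType u] [QuasiCompact u] [LocallyOfFiniteType v] [QuasiCompact v] :
    IsConstructible (ConsPropPair.locusPair P u v) := by
  refine isConstructible_of_integral fun T ι _ _ _ => ?_
  rw [← locusPair_preimage hP.1 (IsPullback.of_hasPullback u ι) (IsPullback.of_hasPullback v ι)]
  exact hP.2 (pullback.snd u ι) (pullback.snd v ι)

theorem exists_trace_locusPair {P : ∀ ⦃X Y T : Scheme.{u}⦄, (X ⟶ T) → (Y ⟶ T) → Prop}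
    (hP : ConsPropPair.IsIndConsPair P) (u : X ⟶ S) (v : Y ⟶ S)
    [LocallyOfFiniteType u] [QuasiCompact u] [LocallyOfFiniteType v] [QuasiCompact v] :
    ∀ x ∈ ConsPropPair.locusPair P u v,
      ∃ U, IsOpen U ∧ x ∈ U ∧ U ∩ closure {x} ⊆ ConsPropPair.locusPair P u v := by
  refine exists_trace_of_integral fun T ι _ _ _ => ?_
  rw [← locusPair_preimage hP.1 (IsPullback.of_hasPullback u ι) (IsPullback.of_hasPullback v ι)]
  exact hP.2 (pullback.snd u ι) (pullback.snd v ι)

theorem isConstructible_locusMor {P : ∀ ⦃X Y T : Scheme.{u}⦄, (X ⟶ Y) → (Y ⟶ T) → Prop}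
    (hP : ConsProp.IsConsMor P) (f : X ⟶ Y) (g : Y ⟶ S)
    [LocallyOfFiniteType g] [QuasiCompact g] [LocallyOfFiniteType (f ≫ g)] [QuasiCompact (f ≫ g)] :
    IsConstructible (ConsProp.locusMor P f g) := by
  refine isConstructible_of_integral fun T ι _ _ _ => ?_
  have h1 := IsPullback.of_hasPullback g ι
  have h2 := IsPullback.of_hasPullback f (pullback.fst g ι)
  rw [← locusMor_preimage hP.1 h1 h2]
  haveI := MorphismProperty.of_isPullback (P := @LocallyOfFiniteType) (h2.paste_vert h1) ‹_›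
  haveI := MorphismProperty.of_isPullback (P := @QuasiCompact) (h2.paste_vert h1) ‹_›
  exact hP.2 _ _

theorem exists_trace_locusMor {P : ∀ ⦃X Y T : Scheme.{u}⦄, (X ⟶ Y) → (Y ⟶ T) → Prop}
    (hP : ConsProp.IsIndConsMor P) (f : X ⟶ Y) (g : Y ⟶ S)
    [LocallyOfFiniteType g] [QuasiCompact g] [LocallyOfFiniteType (f ≫ g)] [QuasiCompact (f ≫ g)] :
    ∀ x ∈ ConsProp.locusMor P f g,
      ∃ U, IsOpen U ∧ x ∈ U ∧ U ∩ closure {x} ⊆ ConsProp.locusMor P f g := by
  refine exists_trace_of_integral fun T ι _ _ _ => ?_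
  have h1 := IsPullback.of_hasPullback g ι
  have h2 := IsPullback.of_hasPullback f (pullback.fst g ι)
  rw [← locusMor_preimage hP.1 h1 h2]
  haveI := MorphismProperty.of_isPullback (P := @LocallyOfFiniteType) (h2.paste_vert h1) ‹_›
  haveI := MorphismProperty.of_isPullback (P := @QuasiCompact) (h2.paste_vert h1) ‹_›
  exact hP.2 _ _

end Noetherian

end Groth.Agent.ConsPropLib
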