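import Groth.Agent.ConsPropLib.Fibres
import Groth.Agent.RadPtLib.Basic
import Groth.Agent.FpqcDesc.Props
import Mathlib.AlgebraicGeometry.ZariskisMainTheorem
import Mathlib.AlgebraicGeometry.Morphisms.Immersion

/-!
Finiteness and universal injectivity of fibres are constructible properties.
-/

universe u

open CategoryTheory CategoryTheory.Limits AlgebraicGeometry Topology Set

namespace Groth.Agent.ConsPropLib

lemma fpqc_of_points {T T' : Scheme.{u}} (h : T' ⟶ T) [IsIntegral T] [Subsingleton T] [IsIntegral T']
    [Subsingleton T'] : FpqcDesc.FPQC h := by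
  haveI : Surjective h := ⟨fun t => ⟨Classical.arbitrary T', Subsingleton.elim _ _⟩⟩
  exact ⟨⟨inferInstance, inferInstance⟩, inferInstance⟩

theorem isFieldStable_isFinite :
    ConsProp.IsFieldStable (fun (Y T : Scheme.{u}) (g : Y ⟶ T) => IsFinite g) := by
  intro Y Y' T T' g g' e h _ _ _ _ _ _ sq
  haveI : MorphismProperty.DescendsAlong @IsFinite FpqcDesc.FPQC.{u} := FpqcDesc.descendsAlong_isFinite
  refine ⟨fun hg => MorphismProperty.of_isPullback sq hg, fun hg => ?_⟩
  have hg' : IsFinite g' := hg
  show IsFinite g
  exact MorphismProperty.DescendsAlong.of_isPullback (P := @IsFinite.{u}) (Q := FpqcDesc.FPQC.{u})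
    sq.flip (fpqc_of_points h) hg'

theorem isFieldStable_universallyInjective :
    ConsProp.IsFieldStable (fun (Y T : Scheme.{u}) (g : Y ⟶ T) => UniversallyInjective g) := by
  intro Y Y' T T' g g' e h _ _ _ _ _ _ sq
  haveI : Surjective h := ⟨fun t => ⟨Classical.arbitrary T', Subsingleton.elim _ _⟩⟩
  exact ⟨fun hg => MorphismProperty.of_isPullback sq hg,
    fun hg => RadPtLib.universallyInjective_of_isPullback sq hg⟩

variable {X S : Scheme.{u}} (f : X ⟶ S)

theorem isFinite_fiber_iff [LocallyOfFiniteType f] [QuasiCompact f] (s : S) :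
    IsFinite (f.fiberToSpecResidueField s) ↔ ∀ x, f x = s → f.QuasiFiniteAt x := by
  constructor
  · intro hfin x hx
    subst hx
    rw [Scheme.Hom.quasiFiniteAt_iff_isOpen_singleton_asFiber]
    have hd := Scheme.Hom.isDiscrete_preimage_singleton (f.fiberToSpecResidueField (f x))
      (IsLocalRing.closedPoint _)
    have e : f.fiberToSpecResidueField (f x) ⁻¹' {IsLocalRing.closedPoint _} = univ :=
      eq_univ_of_forall fun z => f.fiberToSpecResidueField_apply _ z
    haveI : DiscreteTopology (f.fiber (f x)) :=
      isDiscrete_univ_iff.1 ((congrArg IsDiscrete e).mp hd)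
    exact isOpen_discrete _
  · intro H
    haveI := locallyOfFiniteType_fiberTo f s
    haveI := quasiCompact_fiberTo f s
    have aux : ∀ (x : X) (t : S), f x = t → ∀ z : f.fiber t, f.fiberι t z = x →
        f.QuasiFiniteAt x → IsOpen ({z} : Set (f.fiber t)) := by
      intro x t hx z hz hq
      subst hx
      have h1 := Scheme.Hom.quasiFiniteAt_iff_isOpen_singleton_asFiber.1 hq
      have e : f.asFiber x = z :=
        (f.fiberι _).isEmbedding.injective ((f.fiberι_asFiber x).trans hz.symm)
      rwa [e] at h1
    have hopen : ∀ z : f.fiber s, IsOpen ({z} : Set (f.fiber s)) := by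
      intro z
      have hz : f (f.fiberι s z) = s := by
        have := mem_range_self (f := f.fiberι s) z
        rwa [Scheme.Hom.range_fiberι] at this
      exact aux _ s hz z rfl (H _ hz)
    haveI : DiscreteTopology (f.fiber s) := discreteTopology_iff_isOpen_singleton.2 hopen
    haveI : CompactSpace (f.fiber s) :=
      QuasiCompact.compactSpace_of_compactSpace (f.fiberToSpecResidueField s)
    haveI : Finite (f.fiber s) := finite_of_compact_of_discrete
    haveI := LocallyQuasiFinite.of_finite_preimage_singleton (f := f.fiberToSpecResidueField s)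
      (fun _ => toFinite _)
    exact IsFinite.of_locallyQuasiFinite _

theorem isConstructible_locus_isFinite [IsNoetherian S] [LocallyOfFiniteType f] [QuasiCompact f] :
    IsConstructible (ConsProp.locus (fun (Y T : Scheme.{u}) (g : Y ⟶ T) => IsFinite g) f) := by
  haveI : IsLocallyNoetherian X := LocallyOfFiniteType.isLocallyNoetherian f
  haveI : CompactSpace X := QuasiCompact.compactSpace_of_compactSpace f
  haveI : IsNoetherian X := ⟨⟩
  haveI : LocallyOfFinitePresentation f :=
    LocallyOfFinitePresentation.iff_locallyOfFiniteType.2 ‹_›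
  have e : ConsProp.locus (fun (Y T : Scheme.{u}) (g : Y ⟶ T) => IsFinite g) f =
      (f '' (f.quasiFiniteLocus : Set X)ᶜ)ᶜ := by
    ext s
    refine (isFinite_fiber_iff f s).trans ⟨fun H ⟨x, hx, hxs⟩ => hx (H x hxs), ?_⟩
    exact fun H x hx => by_contra fun h => H ⟨x, h, hx⟩
  rw [e]
  exact (f.isConstructible_image
    (ConstrLib.isConstructible_of_isOpen f.quasiFiniteLocus.2).compl).compl

/-- Universal injectivity of a fibre in terms of the diagonal of the family. -/
theorem universallyInjective_fiber_iff (s : S) :
    UniversallyInjective (f.fiberToSpecResidueField s) ↔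
      ∀ z : ↥(pullback f f), (pullback.fst f f ≫ f) z = s → z ∈ range (pullback.diagonal f) := by
  constructor
  · intro hu z hz
    subst hz
    have hi := (tfae_universallyInjective (f.fiberToSpecResidueField ((pullback.fst f f ≫ f) z))).out 0 1
    have hinj := hi.1 hu
    let p := (pullback f f).fromSpecResidueField z
    let c := Spec.map ((pullback.fst f f ≫ f).residueFieldMap z)
    have hc : p ≫ pullback.fst f f ≫ f =
        c ≫ S.fromSpecResidueField ((pullback.fst f f ≫ f) z) :=
      ((pullback.fst f f ≫ f).SpecMap_residueFieldMap_fromSpecResidueField z).symm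
    let a : Spec ((pullback f f).residueField z) ⟶ f.fiber ((pullback.fst f f ≫ f) z) :=
      pullback.lift (p ≫ pullback.fst f f) c (by rw [Category.assoc]; exact hc)
    let b : Spec ((pullback f f).residueField z) ⟶ f.fiber ((pullback.fst f f ≫ f) z) :=
      pullback.lift (p ≫ pullback.snd f f) c
        (by rw [Category.assoc, ← pullback.condition]; exact hc)
    have ha : a ≫ f.fiberι _ = p ≫ pullback.fst f f := pullback.lift_fst _ _ _
    have hb : b ≫ f.fiberι _ = p ≫ pullback.snd f f := pullback.lift_fst _ _ _
    have hab : a = b := @hinj ((pullback f f).residueField z) _ a b (by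
      show a ≫ f.fiberToSpecResidueField _ = b ≫ f.fiberToSpecResidueField _
      exact (pullback.lift_snd _ _ _).trans (pullback.lift_snd _ _ _).symm)
    have hp : p = (p ≫ pullback.fst f f) ≫ pullback.diagonal f := by
      apply pullback.hom_ext
      · simp
      · simp only [Category.assoc, pullback.diagonal_snd, Category.comp_id]
        rw [← hb, ← hab, ha]
    refine ⟨(p ≫ pullback.fst f f) (IsLocalRing.closedPoint _), ?_⟩
    rw [← Scheme.Hom.comp_apply, ← hp, Scheme.fromSpecResidueField_apply]
  · intro H
    rw [UniversallyInjective.iff_diagonal]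
    refine ⟨fun z' => ?_⟩
    let g := f.fiberToSpecResidueField s
    let k : pullback g g ⟶ pullback f f :=
      pullback.map g g f f (f.fiberι s) (f.fiberι s) (S.fromSpecResidueField s)
        (Scheme.Hom.fiber_fac f s).symm (Scheme.Hom.fiber_fac f s).symm
    have k1 : k ≫ pullback.fst f f = pullback.fst g g ≫ f.fiberι s := pullback.lift_fst _ _ _
    have k2 : k ≫ pullback.snd f f = pullback.snd g g ≫ f.fiberι s := pullback.lift_snd _ _ _
    haveI : Mono k := ⟨fun {W} a b hab => by
      apply pullback.hom_ext
      · rw [← cancel_mono (f.fiberι s), Category.assoc, Category.assoc, ← k1, reassoc_of% hab]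
      · rw [← cancel_mono (f.fiberι s), Category.assoc, Category.assoc, ← k2, reassoc_of% hab]⟩
    have hkinj : Function.Injective k := by
      haveI : UniversallyInjective k := (UniversallyInjective.iff_diagonal k).2 inferInstance
      exact k.injective
    have hs : ∀ x, f (f.fiberι s x) = s := fun x => by
      have := mem_range_self (f := f.fiberι s) x
      rwa [Scheme.Hom.range_fiberι] at this
    have hks : (pullback.fst f f ≫ f) (k z') = s := by
      have e : k ≫ pullback.fst f f = pullback.fst g g ≫ f.fiberι s := pullback.lift_fst _ _ _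
      rw [Scheme.Hom.comp_apply, ← Scheme.Hom.comp_apply k, e, Scheme.Hom.comp_apply, hs]
    obtain ⟨x, hx⟩ := H _ hks
    have hx' : f x = s := by
      rw [← hx, ← Scheme.Hom.comp_apply, pullback.diagonal_fst_assoc] at hks
      exact hks
    obtain ⟨x', rfl⟩ : x ∈ range (f.fiberι s) := by rw [Scheme.Hom.range_fiberι]; exact hx'
    refine ⟨x', hkinj ?_⟩
    rw [← hx, ← Scheme.Hom.comp_apply, ← Scheme.Hom.comp_apply]
    have e2 : pullback.diagonal g ≫ k = f.fiberι s ≫ pullback.diagonal f := by
      apply pullback.hom_ext
      · rw [Category.assoc, Category.assoc, k1, pullback.diagonal_fst, Category.comp_id,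
          pullback.diagonal_fst_assoc]
      · rw [Category.assoc, Category.assoc, k2, pullback.diagonal_snd, Category.comp_id,
          pullback.diagonal_snd_assoc]
    exact congrArg (fun m => (m : f.fiber s ⟶ pullback f f) x') e2

theorem isConstructible_locus_universallyInjective [IsNoetherian S] [LocallyOfFiniteType f]
    [QuasiCompact f] :
    IsConstructible (ConsProp.locus (fun (Y T : Scheme.{u}) (g : Y ⟶ T) => UniversallyInjective g) f) := by
  haveI : LocallyOfFiniteType (pullback.fst f f ≫ f) := inferInstance
  haveI : QuasiCompact (pullback.fst f f ≫ f) := inferInstance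
  haveI : IsLocallyNoetherian (pullback f f) :=
    LocallyOfFiniteType.isLocallyNoetherian (pullback.fst f f ≫ f)
  haveI : CompactSpace ↥(pullback f f) :=
    QuasiCompact.compactSpace_of_compactSpace (pullback.fst f f ≫ f)
  haveI : IsNoetherian (pullback f f) := ⟨⟩
  haveI : LocallyOfFinitePresentation (pullback.fst f f ≫ f) :=
    LocallyOfFinitePresentation.iff_locallyOfFiniteType.2 ‹_›
  have e : ConsProp.locus (fun (Y T : Scheme.{u}) (g : Y ⟶ T) => UniversallyInjective g) f =
      ((pullback.fst f f ≫ f) '' (range (pullback.diagonal f))ᶜ)ᶜ := by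
    ext s
    refine (universallyInjective_fiber_iff f s).trans
      ⟨fun H ⟨z, hz, hzs⟩ => hz (H z hzs), fun H z hz => by_contra fun h => H ⟨z, h, hz⟩⟩
  rw [e]
  exact ((pullback.fst f f ≫ f).isConstructible_image (ConstrLib.isConstructible_of_isLocallyClosed
    (pullback.diagonal f).isLocallyClosed_range).compl).compl

lemma interior_or_compl_of_isConstructible {E : Set S} [IsIntegral S] (hE : IsConstructible E) :
    (interior E).Nonempty ∨ (interior Eᶜ).Nonempty := by
  by_cases hη : genericPoint S ∈ E
  · obtain ⟨U, hU, hmem, hsub⟩ := exists_open_subset_of_generic hE hη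
    exact Or.inl ⟨_, interior_maximal hsub hU hmem⟩
  · obtain ⟨U, hU, hmem, hsub⟩ := exists_open_subset_of_generic hE.compl hη
    exact Or.inr ⟨_, interior_maximal hsub hU hmem⟩

/-- Replace a constructible property of morphisms by one agreeing with it on finite type data. -/
theorem isConsMor_congr {P Q : ∀ ⦃X Y T : Scheme.{u}⦄, (X ⟶ Y) → (Y ⟶ T) → Prop}
    (hP : ConsProp.IsConsMor P)
    (h : ∀ {X Y T : Scheme.{u}} (f : X ⟶ Y) (g : Y ⟶ T) [IsLocallyNoetherian T]
      [LocallyOfFiniteType g] [QuasiCompact g] [LocallyOfFiniteType (f ≫ g)] [QuasiCompact (f ≫ g)],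
      P f g ↔ Q f g) :
    ConsProp.IsConsMor Q := by
  refine ⟨?_, fun X Y S f g _ _ _ _ _ _ => ?_⟩
  · intro X X' Y Y' T T' f g f' g' eX eY m _ _ _ _ _ _ _ _ sqY sqX
    haveI := isLocallyNoetherian_of_point T
    haveI := isLocallyNoetherian_of_point T'
    haveI := MorphismProperty.of_isPullback (P := @LocallyOfFiniteType) sqY ‹_›
    haveI := MorphismProperty.of_isPullback (P := @QuasiCompact) sqY ‹_›
    haveI := MorphismProperty.of_isPullback (P := @LocallyOfFiniteType) (sqX.paste_vert sqY) ‹_›
    haveI := MorphismProperty.of_isPullback (P := @QuasiCompact) (sqX.paste_vert sqY) ‹_›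
    rw [← h f g, ← h f' g']
    exact hP.1 f g f' g' eX eY m sqY sqX
  · have e : ConsProp.locusMor Q f g = ConsProp.locusMor P f g := by
      ext s
      haveI := locallyOfFiniteType_fiberTo g s
      haveI := quasiCompact_fiberTo g s
      haveI : LocallyOfFiniteType (MoreMor.fiberMap f g s ≫ g.fiberToSpecResidueField s) :=
        (fiberMap_comp f g s).symm ▸ locallyOfFiniteType_fiberTo (f ≫ g) s
      haveI : QuasiCompact (MoreMor.fiberMap f g s ≫ g.fiberToSpecResidueField s) :=
        (fiberMap_comp f g s).symm ▸ quasiCompact_fiberTo (f ≫ g) s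
      exact (h _ _).symm
    rw [e]
    exact hP.2 f g

end Groth.Agent.ConsPropLib
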