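import Groth.Agent.ConsPropLib.BaseChange

/-!
A constructible property of schemes gives one of morphisms: "every fibre has the property".
-/

universe u

open CategoryTheory CategoryTheory.Limits AlgebraicGeometry Topology Set

namespace Groth.Agent.ConsPropLib

variable {P : ∀ ⦃Y T : Scheme.{u}⦄, (Y ⟶ T) → Prop}

/-- "All fibres satisfy `P`". -/
abbrev AllFib (P : ∀ ⦃Y T : Scheme.{u}⦄, (Y ⟶ T) → Prop) :
    ∀ ⦃X Y T : Scheme.{u}⦄, (X ⟶ Y) → (Y ⟶ T) → Prop :=
  fun _ Y _ f _ => ∀ y : ↥Y, P (f.fiberToSpecResidueField y)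

lemma quasiCompact_left {X Y T : Scheme.{u}} (f : X ⟶ Y) (g : Y ⟶ T) [IsLocallyNoetherian T]
    [LocallyOfFiniteType g] [QuasiCompact (f ≫ g)] : QuasiCompact f :=
  haveI : IsLocallyNoetherian Y := LocallyOfFiniteType.isLocallyNoetherian g
  QuasiCompact.of_comp f g

lemma isLocallyNoetherian_of_point (T : Scheme.{u}) [IsIntegral T] [Subsingleton T] :
    IsLocallyNoetherian T := by
  letI : Field Γ(T, ⊤) := (isField_of_isIntegral_of_subsingleton T).toField
  haveI : IsNoetherianRing Γ(T, ⊤) := inferInstance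
  exact isLocallyNoetherian_of_isOpenImmersion T.isoSpec.hom

theorem isFieldStableMor_allFib (hP : ConsProp.IsFieldStable P) :
    ConsProp.IsFieldStableMor (AllFib P) := by
  intro X X' Y Y' T T' f g f' g' eX eY h _ _ _ _ _ _ _ _ sqY sqX
  haveI := isLocallyNoetherian_of_point T
  haveI : LocallyOfFiniteType f := locallyOfFiniteType_of_comp f g
  haveI : QuasiCompact f := quasiCompact_left f g
  have key := fun y' : Y' => Set.ext_iff.1 (locus_preimage hP sqX) y'
  haveI : Surjective h := ⟨fun t => ⟨Classical.arbitrary T', Subsingleton.elim _ _⟩⟩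
  haveI : Surjective eY := MorphismProperty.of_isPullback (P := @Surjective) sqY.flip inferInstance
  constructor
  · intro H y'
    exact (key y').2 (H _)
  · intro H y
    obtain ⟨y', rfl⟩ := eY.surjective y
    exact (key y').1 (H y')

variable {X Y S : Scheme.{u}} [IsNoetherian S] (f : X ⟶ Y) (g : Y ⟶ S)
  [LocallyOfFiniteType g] [QuasiCompact g] [LocallyOfFiniteType (f ≫ g)] [QuasiCompact (f ≫ g)]

theorem locusMor_allFib (hP : ConsProp.IsFieldStable P) (s : S) :
    s ∈ ConsProp.locusMor (AllFib P) f g ↔ ∀ y : Y, g y = s → y ∈ ConsProp.locus P f := by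
  haveI : LocallyOfFiniteType f := locallyOfFiniteType_of_comp f g
  haveI : QuasiCompact f := quasiCompact_left f g
  have key := fun z => Set.ext_iff.1 (locus_preimage hP (isPullback_fiberMap f g s)) z
  constructor
  · intro H y hy
    obtain ⟨z, rfl⟩ : y ∈ range (g.fiberι s) := by rw [Scheme.Hom.range_fiberι]; exact hy
    exact (key z).1 (H z)
  · intro H z
    refine (key z).2 (H _ ?_)
    have := mem_range_self (f := g.fiberι s) z
    rwa [Scheme.Hom.range_fiberι] at this

theorem interior_or_compl (hP : ConsProp.IsCons P) [IsIntegral S] :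
    (interior (ConsProp.locusMor (AllFib P) f g)).Nonempty ∨
      (interior (ConsProp.locusMor (AllFib P) f g)ᶜ).Nonempty := by
  haveI : LocallyOfFiniteType f := locallyOfFiniteType_of_comp f g
  haveI : QuasiCompact f := quasiCompact_left f g
  haveI : IsLocallyNoetherian Y := LocallyOfFiniteType.isLocallyNoetherian g
  haveI : CompactSpace Y := QuasiCompact.compactSpace_of_compactSpace g
  haveI : IsNoetherian Y := ⟨⟩
  haveI : LocallyOfFinitePresentation g :=
    LocallyOfFinitePresentation.iff_locallyOfFiniteType.2 ‹_›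
  have hC := g.isConstructible_image (isConstructible_locus hP f).compl
  have e : ConsProp.locusMor (AllFib P) f g = (g '' (ConsProp.locus P f)ᶜ)ᶜ := by
    ext s
    rw [locusMor_allFib f g hP.1]
    exact ⟨fun H ⟨y, hy, hys⟩ => hy (H y hys),
      fun H y hy => by_contra fun h => H ⟨y, h, hy⟩⟩
  rw [e]
  by_cases hη : genericPoint S ∈ g '' (ConsProp.locus P f)ᶜ
  · obtain ⟨U, hU, hmem, hsub⟩ := exists_open_subset_of_generic hC hη
    exact Or.inr ⟨_, interior_maximal (by rw [compl_compl]; exact hsub) hU hmem⟩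
  · obtain ⟨U, hU, hmem, hsub⟩ := exists_open_subset_of_generic hC.compl hη
    exact Or.inl ⟨_, interior_maximal hsub hU hmem⟩

theorem interior_of_generic (hP : ConsProp.IsIndCons P) [IsIntegral S]
    (hη : genericPoint S ∈ ConsProp.locusMor (AllFib P) f g) :
    (interior (ConsProp.locusMor (AllFib P) f g)).Nonempty := by
  haveI : LocallyOfFiniteType f := locallyOfFiniteType_of_comp f g
  haveI : QuasiCompact f := quasiCompact_left f g
  haveI : IsLocallyNoetherian Y := LocallyOfFiniteType.isLocallyNoetherian g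
  haveI : CompactSpace Y := QuasiCompact.compactSpace_of_compactSpace g
  haveI : IsNoetherian Y := ⟨⟩
  haveI : LocallyOfFinitePresentation g :=
    LocallyOfFinitePresentation.iff_locallyOfFiniteType.2 ‹_›
  rw [locusMor_allFib f g hP.1] at hη
  have hF : StableUnderGeneralization (g ⁻¹' ({genericPoint S} : Set S)) := by
    intro a b hba ha
    have h1 : g b ⤳ g a := hba.map g.continuous
    rw [mem_preimage, mem_singleton_iff] at ha
    rw [ha] at h1
    exact (h1.antisymm (genericPoint_specializes _)).eq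
  obtain ⟨C, hC, h1, h2⟩ := exists_constructible_between hF (fun y hy => hη y hy)
    (exists_trace_locus hP f)
  have hη' : genericPoint S ∈ (g '' Cᶜ)ᶜ := fun ⟨y, hy, hys⟩ => hy (h1 hys)
  obtain ⟨U, hU, hmem, hsub⟩ := exists_open_subset_of_generic (g.isConstructible_image hC.compl).compl hη'
  refine ⟨_, interior_maximal (fun s hs => ?_) hU hmem⟩
  rw [locusMor_allFib f g hP.1]
  exact fun y hy => h2 (by_contra fun h => hsub hs ⟨y, h, hy⟩)

end Groth.Agent.ConsPropLib
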